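import Mathlib

/-!
# Finite sets of points and affine opens for immersions into `Proj`
-/

universe u v

open CategoryTheory AlgebraicGeometry TopologicalSpace

namespace Groth.Agent.H75.GenPts

variable {R : Type u} {A : Type v} [CommRing R] [CommRing A] [Algebra R A]
  (𝒜 : ℕ → Submodule R A) [GradedAlgebra 𝒜]

theorem exists_homogeneous_notMem (I : HomogeneousIdeal 𝒜) (P : ProjectiveSpectrum 𝒜)
    (h : ¬ I.toIdeal ≤ P.asHomogeneousIdeal.toIdeal) :
    ∃ (m : ℕ) (a : A), 0 < m ∧ a ∈ 𝒜 m ∧ a ∈ I.toIdeal ∧ a ∉ P.asHomogeneousIdeal.toIdeal := by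
  classical
  have aux : ∀ J : Ideal A, J.IsHomogeneous 𝒜 → ¬ J ≤ P.asHomogeneousIdeal.toIdeal →
      ∃ (m : ℕ) (a : A), a ∈ 𝒜 m ∧ a ∈ J ∧ a ∉ P.asHomogeneousIdeal.toIdeal := by
    intro J hJ hle
    obtain ⟨x, hxJ, hx⟩ := SetLike.not_le_iff_exists.mp hle
    by_contra! hc
    apply hx
    rw [← DirectSum.sum_support_decompose 𝒜 x]
    exact Ideal.sum_mem _ fun i _ => hc i _ (SetLike.coe_mem _) (hJ i hxJ)
  obtain ⟨m, a, ha, haI, hax⟩ := aux _ I.isHomogeneous h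
  by_cases hm : 0 < m
  · exact ⟨m, a, hm, ha, haI, hax⟩
  obtain ⟨x, hxirr, hx⟩ := SetLike.not_le_iff_exists.mp P.not_irrelevant_le
  obtain ⟨i, hi0, hi⟩ : ∃ i, 0 < i ∧ (DirectSum.decompose 𝒜 x i : A) ∉ P.asHomogeneousIdeal.toIdeal := by
    by_contra! hc
    apply hx
    show x ∈ P.asHomogeneousIdeal.toIdeal
    rw [← DirectSum.sum_support_decompose 𝒜 x]
    refine Ideal.sum_mem _ fun i _ => ?_
    rcases Nat.eq_zero_or_pos i with rfl | hi
    · have : (DirectSum.decompose 𝒜 x 0 : A) = 0 := hxirr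
      rw [this]; exact zero_mem _
    · exact hc i hi
  exact ⟨m + i, a * (DirectSum.decompose 𝒜 x i : A), by omega, SetLike.mul_mem_graded ha (SetLike.coe_mem _),
    Ideal.mul_mem_right _ _ haI, fun hh => (P.isPrime.mem_or_mem hh).elim hax hi⟩

/-- Homogeneous prime avoidance. -/
theorem exists_avoid (I : HomogeneousIdeal 𝒜) (T : Finset (ProjectiveSpectrum 𝒜))
    (hT : ∀ x ∈ T, ¬ I.toIdeal ≤ x.asHomogeneousIdeal.toIdeal) :
    ∃ (m : ℕ) (f : A), 0 < m ∧ f ∈ 𝒜 m ∧ f ∈ I.toIdeal ∧ ∀ x ∈ T, f ∉ x.asHomogeneousIdeal.toIdeal := by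
  classical
  induction T using Finset.strongInduction with
  | H T ih =>
  rcases T.eq_empty_or_nonempty with rfl | hne
  · exact ⟨1, 0, one_pos, zero_mem _, zero_mem _, by simp⟩
  obtain ⟨x, hx, hmin⟩ := (T : Set (ProjectiveSpectrum 𝒜)).toFinite.exists_minimalFor
    (fun y : ProjectiveSpectrum 𝒜 => y.asHomogeneousIdeal.toIdeal) _ hne
  obtain ⟨m, f, hm, hf, hfI, hfT⟩ := ih (T.erase x) (Finset.erase_ssubset hx) fun y hy => hT y (Finset.mem_of_mem_erase hy)
  by_cases hfx : f ∈ x.asHomogeneousIdeal.toIdeal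
  swap
  · refine ⟨m, f, hm, hf, hfI, fun y hy => ?_⟩
    rcases eq_or_ne y x with rfl | hyx
    · exact hfx
    · exact hfT y (Finset.mem_erase.mpr ⟨hyx, hy⟩)
  let J : HomogeneousIdeal 𝒜 := I ⊓ (T.erase x).inf fun y => y.asHomogeneousIdeal
  have hJ : ¬ J.toIdeal ≤ x.asHomogeneousIdeal.toIdeal := by
    intro hle
    rw [show J.toIdeal = I.toIdeal ⊓ ((T.erase x).inf fun y => y.asHomogeneousIdeal).toIdeal from
      HomogeneousIdeal.toIdeal_inf _ _] at hle
    rcases x.isPrime.inf_le.mp hle with h | h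
    · exact hT x hx h
    · rw [show ((T.erase x).inf fun y => y.asHomogeneousIdeal).toIdeal =
        (T.erase x).inf fun y => y.asHomogeneousIdeal.toIdeal from
        map_finset_inf ({ toFun := fun J => J.toIdeal, map_inf' := fun _ _ => HomogeneousIdeal.toIdeal_inf _ _, map_top' := HomogeneousIdeal.toIdeal_top } : InfTopHom (HomogeneousIdeal 𝒜) (Ideal A)) _ _,
        x.isPrime.inf_le'] at h
      obtain ⟨y, hy, hyx⟩ := h
      obtain ⟨hne', hyT⟩ := Finset.mem_erase.mp hy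
      refine hne' (ProjectiveSpectrum.ext ?_)
      exact HomogeneousIdeal.toIdeal_injective (le_antisymm hyx (hmin hyT hyx))
  obtain ⟨n, g, hn, hg, hgJ, hgx⟩ := exists_homogeneous_notMem 𝒜 J x hJ
  have hgI : g ∈ I.toIdeal := (inf_le_left : J ≤ I) hgJ
  refine ⟨m * n, f ^ n + g ^ m, Nat.mul_pos hm hn, ?_, ?_, fun y hy => ?_⟩
  · refine add_mem ?_ ?_
    · simpa [smul_eq_mul, mul_comm] using SetLike.pow_mem_graded n hf
    · simpa [smul_eq_mul, mul_comm] using SetLike.pow_mem_graded m hg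
  · exact add_mem (Ideal.pow_mem_of_mem _ hfI _ hn) (Ideal.pow_mem_of_mem _ hgI _ hm)
  · intro hmem
    rcases eq_or_ne y x with rfl | hyx
    · exact hgx (y.isPrime.mem_of_pow_mem _ ((Ideal.add_mem_iff_right _ (Ideal.pow_mem_of_mem _ hfx _ hn)).mp hmem))
    · have hy' := Finset.mem_erase.mpr ⟨hyx, hy⟩
      have hgy : g ∈ y.asHomogeneousIdeal.toIdeal :=
        ((inf_le_right : J ≤ _).trans (Finset.inf_le hy')) hgJ
      exact hfT y hy' (y.isPrime.mem_of_pow_mem _ ((Ideal.add_mem_iff_left _ (Ideal.pow_mem_of_mem _ hgy _ hm)).mp hmem))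

/-- A finite subset of an open of `Proj` lies in a basic open inside it. -/
theorem exists_basicOpen_finite {A : Type u} [CommRing A] [Algebra R A] (𝒜 : ℕ → Submodule R A)
    [GradedAlgebra 𝒜] (O : (Proj 𝒜).Opens) (E : Set (Proj 𝒜)) (hE : E.Finite) (hEO : E ⊆ O) :
    ∃ U : (Proj 𝒜).Opens, IsAffineOpen U ∧ U ≤ O ∧ E ⊆ U := by
  let C : Set (ProjectiveSpectrum 𝒜) := (O : Set (Proj 𝒜))ᶜ
  have hC : ProjectiveSpectrum.zeroLocus 𝒜 (ProjectiveSpectrum.vanishingIdeal C : Set A) = C :=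
    (ProjectiveSpectrum.zeroLocus_vanishingIdeal_eq_closure 𝒜 C).trans O.2.isClosed_compl.closure_eq
  obtain ⟨m, f, hm, hf, hfI, hfE⟩ := exists_avoid 𝒜 (ProjectiveSpectrum.vanishingIdeal C) hE.toFinset
    (fun x hx hle => by
      have : x ∈ ProjectiveSpectrum.zeroLocus 𝒜 (ProjectiveSpectrum.vanishingIdeal C : Set A) := hle
      rw [hC] at this
      exact this (hEO ((Set.Finite.mem_toFinset hE).mp hx)))
  refine ⟨Proj.basicOpen 𝒜 f, Proj.isAffineOpen_basicOpen 𝒜 f hf hm, fun x hx => ?_, fun x hx => ?_⟩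
  · by_contra hxO
    have : (x : ProjectiveSpectrum 𝒜) ∈ ProjectiveSpectrum.zeroLocus 𝒜 (ProjectiveSpectrum.vanishingIdeal C : Set A) := by
      rw [hC]; exact hxO
    exact hx (this hfI)
  · exact hfE x ((Set.Finite.mem_toFinset hE).mpr hx)

end Groth.Agent.H75.GenPts
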