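import Mathlib

/-!
# Generic points of irreducible components and quasi-compact opens; separated disjoint unions
-/

universe u

open CategoryTheory Limits AlgebraicGeometry TopologicalSpace

namespace Groth.Agent.H75.GenPts

variable {X : Scheme.{u}}

theorem eq_of_specializes {η z : X} (hη : closure ({η} : Set X) ∈ irreducibleComponents (X : Type u))
    (hz : z ⤳ η) : z = η :=
  ((specializes_iff_closure_subset.mpr
    (hη.2 isIrreducible_singleton.closure (specializes_iff_closure_subset.mp hz))).antisymm hz).eq.symm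

theorem isNilpotent_germ {η : X} (hη : closure ({η} : Set X) ∈ irreducibleComponents (X : Type u))
    {s : X.presheaf.stalk η} (hs : ¬ IsUnit s) : IsNilpotent s := by
  rw [nilpotent_iff_mem_prime]
  intro P hP
  let p : Spec (X.presheaf.stalk η) := (⟨P, hP⟩ : PrimeSpectrum (X.presheaf.stalk η))
  have h1 : (X.fromSpecStalk η).base p ∈ Set.range (X.fromSpecStalk η).base := ⟨p, rfl⟩
  rw [Scheme.range_fromSpecStalk] at h1
  have h2 : (X.fromSpecStalk η).base p = (X.fromSpecStalk η).base (IsLocalRing.closedPoint _) := by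
    rw [Scheme.fromSpecStalk_closedPoint]; exact eq_of_specializes hη h1
  have h3 : p = IsLocalRing.closedPoint (X.presheaf.stalk η) := (X.fromSpecStalk η).isEmbedding.injective h2
  have h4 : P = IsLocalRing.maximalIdeal (X.presheaf.stalk η) := congrArg PrimeSpectrum.asIdeal h3
  rw [h4]
  exact hs

/-- A generic point outside a quasi-compact open is outside its closure. -/
theorem notMem_closure [QuasiSeparatedSpace X] {η : X}
    (hη : closure ({η} : Set X) ∈ irreducibleComponents (X : Type u))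
    (C : X.Opens) (hC : IsCompact (C : Set X)) (hηC : η ∉ C) : η ∉ closure (C : Set X) := by
  obtain ⟨U, hU, hηU, -⟩ := exists_isAffineOpen_mem_and_subset (X := X) (x := η) (U := ⊤) trivial
  have hD : IsCompact (((U ⊓ C : X.Opens)) : Set X) :=
    QuasiSeparatedSpace.inter_isCompact _ _ U.2 hU.isCompact C.2 hC
  obtain ⟨S, hS, hUS⟩ : ∃ S : Set Γ(X, U), S.Finite ∧ (↑(U ⊓ C) : Set X) ⊆ ⋃ r ∈ S, (X.basicOpen r : Set X) ∧
      ∀ r ∈ S, X.basicOpen r ≤ C := by
    obtain ⟨S, hS, hfin, hcov⟩ := hD.elim_finite_subcover_image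
      (b := {r : Γ(X, U) | X.basicOpen r ≤ C}) (c := fun r => (X.basicOpen r : Set X))
      (fun r _ => (X.basicOpen r).2) (fun x hx => by
        obtain ⟨r, hr, hxr⟩ := hU.exists_basicOpen_le ⟨x, hx.2⟩ hx.1
        exact Set.mem_biUnion (show r ∈ {r : Γ(X, U) | X.basicOpen r ≤ C} from hr) hxr)
    exact ⟨S, hfin, hcov, fun r hr => hS hr⟩
  have key : ∀ r ∈ S, ∃ N : X.Opens, η ∈ N ∧ Disjoint (N : Set X) (X.basicOpen r : Set X) := by
    intro r hr
    have hu : ¬ IsUnit (X.presheaf.germ U η hηU r) := fun h =>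
      hηC (hUS.2 r hr ((X.mem_basicOpen r η hηU).mpr h))
    obtain ⟨n, hn⟩ := isNilpotent_germ hη hu
    rw [← map_pow] at hn
    obtain ⟨N, hN, i₁, i₂, hNe⟩ := X.presheaf.germ_eq η hηU hηU (r ^ n) 0 (by rw [hn, map_zero])
    refine ⟨N, hN, Set.disjoint_left.mpr fun z hzN hzr => ?_⟩
    have hzU : z ∈ U := X.basicOpen_le r hzr
    have h1 : IsUnit (X.presheaf.germ U z hzU (r ^ n)) := by
      rw [map_pow]; exact ((X.mem_basicOpen r z hzU).mp hzr).pow n
    have h2 := congrArg (X.presheaf.germ N z hzN) hNe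
    rw [X.presheaf.germ_res_apply, X.presheaf.germ_res_apply, map_zero] at h2
    exact not_isUnit_zero (h2 ▸ h1)
  choose N hN hd using key
  haveI := hS.to_subtype
  intro hcl
  have hop : IsOpen ((U : Set X) ∩ ⋂ r : S, (N r.1 r.2 : Set X)) :=
    U.2.inter (isOpen_iInter_of_finite fun r => (N r.1 r.2).2)
  obtain ⟨z, ⟨hzU, hzN⟩, hzC⟩ :=
    mem_closure_iff.mp hcl _ hop ⟨hηU, Set.mem_iInter.mpr fun r => hN r.1 r.2⟩
  obtain ⟨r, hr, hzr⟩ := Set.mem_iUnion₂.mp (hUS.1 ⟨hzU, hzC⟩)
  exact Set.disjoint_left.mp (hd r hr) (Set.mem_iInter.mp hzN ⟨r, hr⟩) hzr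

/-- An affine neighbourhood inside a given neighbourhood, away from closed sets not containing the point. -/
theorem exists_affine_nhd (η : X) (S : Set X) (hS : IsClosed S) (hη : η ∉ S) (W : X.Opens) (hW : η ∈ W) :
    ∃ U : X.Opens, IsAffineOpen U ∧ η ∈ U ∧ U ≤ W ∧ Disjoint (U : Set X) S := by
  obtain ⟨U, hU, hηU, hle⟩ := exists_isAffineOpen_mem_and_subset (X := X) (x := η)
    (U := W ⊓ ⟨Sᶜ, hS.isOpen_compl⟩) ⟨hW, hη⟩
  exact ⟨U, hU, hηU, fun z hz => (hle hz).1, Set.disjoint_left.mpr fun z hz => (hle hz).2⟩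

/-- Pairwise disjoint affine neighbourhoods of generic points. -/
theorem exists_disjoint_affine [QuasiSeparatedSpace X] {ι : Type*} [Finite ι] (η : ι → X)
    (hη : ∀ i, closure ({η i} : Set X) ∈ irreducibleComponents (X : Type u)) (hinj : Function.Injective η)
    (W : ι → X.Opens) (hW : ∀ i, η i ∈ W i) :
    ∃ U : ι → X.Opens, (∀ i, IsAffineOpen (U i) ∧ η i ∈ U i ∧ U i ≤ W i) ∧
      ∀ i j, i ≠ j → Disjoint (U i) (U j) := by
  have h1 : ∀ i, ∃ U : X.Opens, IsAffineOpen U ∧ η i ∈ U ∧ U ≤ W i ∧ ∀ j, j ≠ i → η j ∉ U := by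
    intro i
    have hcl : IsClosed (⋃ j : {j // j ≠ i}, closure ({η j.1} : Set X)) :=
      isClosed_iUnion_of_finite fun _ => isClosed_closure
    have hni : η i ∉ ⋃ j : {j // j ≠ i}, closure ({η j.1} : Set X) := by
      intro h
      obtain ⟨j, hj⟩ := Set.mem_iUnion.mp h
      exact j.2 (hinj (eq_of_specializes (hη i) (specializes_iff_mem_closure.mpr hj)))
    obtain ⟨U, hU, hiU, hUW, hd⟩ := exists_affine_nhd (η i) _ hcl hni (W i) (hW i)
    exact ⟨U, hU, hiU, hUW, fun j hj hjU =>
      Set.disjoint_left.mp hd hjU (Set.mem_iUnion.mpr ⟨⟨j, hj⟩, subset_closure rfl⟩)⟩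
  choose U hU hiU hUW hne using h1
  have h2 : ∀ i, ∃ D : X.Opens, IsAffineOpen D ∧ η i ∈ D ∧ D ≤ U i ∧
      Disjoint (D : Set X) (⋃ j : {j // j ≠ i}, closure ((U i ⊓ U j.1 : X.Opens) : Set X)) := by
    intro i
    refine exists_affine_nhd (η i) _ (isClosed_iUnion_of_finite fun _ => isClosed_closure) ?_ _ (hiU i)
    intro h
    obtain ⟨j, hj⟩ := Set.mem_iUnion.mp h
    refine notMem_closure (hη i) (U i ⊓ U j.1) ?_ (fun h' => hne j.1 i j.2.symm h'.2) hj
    exact QuasiSeparatedSpace.inter_isCompact _ _ (U i).2 (hU i).isCompact (U j.1).2 (hU j.1).isCompact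
  choose D hD hiD hDU hdis using h2
  refine ⟨D, fun i => ⟨hD i, hiD i, (hDU i).trans (hUW i)⟩, fun i j hij => ?_⟩
  rw [disjoint_iff]
  ext z
  simp only [Opens.coe_inf, Set.mem_inter_iff, Opens.coe_bot, Set.mem_empty_iff_false, iff_false, not_and]
  intro hzi hzj
  exact Set.disjoint_left.mp (hdis i) hzi
    (Set.mem_iUnion.mpr ⟨⟨j, hij.symm⟩, subset_closure ⟨hDU i hzi, hDU j hzj⟩⟩)

/-- A disjoint union of separated schemes is separated. -/
theorem isSeparated_of_disjoint {ι : Type*} (W : ι → X.Opens) (hcov : ⨆ i, W i = ⊤)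
    (hd : ∀ i j, i ≠ j → Disjoint (W i) (W j)) (hs : ∀ i, (W i : Scheme.{u}).IsSeparated) :
    X.IsSeparated := by
  refine ⟨⟨?_⟩⟩
  let t := terminal.from X
  have cov : (⨆ p : ι × ι, (pullback.fst t t) ⁻¹ᵁ (W p.1) ⊓ (pullback.snd t t) ⁻¹ᵁ (W p.2)) = ⊤ := by
    refine eq_top_iff.mpr fun z _ => ?_
    obtain ⟨i, hi⟩ := Opens.mem_iSup.mp (hcov.ge (Opens.mem_top ((pullback.fst t t) z)))
    obtain ⟨j, hj⟩ := Opens.mem_iSup.mp (hcov.ge (Opens.mem_top ((pullback.snd t t) z)))
    exact Opens.mem_iSup.mpr ⟨(i, j), hi, hj⟩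
  refine (IsZariskiLocalAtTarget.iff_of_iSup_eq_top (P := @IsClosedImmersion) _ cov).mpr ?_
  rintro ⟨i, j⟩
  set V := (pullback.fst t t) ⁻¹ᵁ (W i) ⊓ (pullback.snd t t) ⁻¹ᵁ (W j) with hVdef
  have hpre : pullback.diagonal t ⁻¹ᵁ V = W i ⊓ W j := by
    rw [hVdef, Scheme.Hom.preimage_inf, ← Scheme.Hom.comp_preimage, ← Scheme.Hom.comp_preimage,
      pullback.diagonal_fst, pullback.diagonal_snd]
    rfl
  rcases eq_or_ne i j with rfl | hij
  · haveI := hs i
    let μ := pullback.map ((W i).ι ≫ t) ((W i).ι ≫ t) t t (W i).ι (W i).ι (𝟙 _) (Category.comp_id _) (Category.comp_id _)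
    haveI : IsOpenImmersion μ := Scheme.pullback_map_isOpenImmersion _ _ _ _ _ _ _ _ _
    have hμ : μ.opensRange = V := by
      ext z
      have h0 : Set.range μ = _ := Scheme.Pullback.range_map _ _ t t (W i).ι (W i).ι (𝟙 _) (Category.comp_id _) (Category.comp_id _)
      show z ∈ Set.range μ ↔ _
      rw [h0]
      simp only [Scheme.Opens.range_ι]
      rfl
    haveI : (pullback ((W i).ι ≫ t) ((W i).ι ≫ t)).IsSeparated := by
      haveI : IsSeparated ((W i).ι ≫ t) := by
        rw [show (W i).ι ≫ t = terminal.from _ from terminal.hom_ext _ _]; infer_instance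
      refine ⟨?_⟩
      rw [show terminal.from (pullback ((W i).ι ≫ t) ((W i).ι ≫ t)) =
        pullback.fst ((W i).ι ≫ t) ((W i).ι ≫ t) ≫ terminal.from _ from terminal.hom_ext _ _]
      infer_instance
    haveI : (V : Scheme.{u}).IsSeparated := by
      refine ⟨?_⟩
      rw [show terminal.from (V : Scheme.{u}) =
        ((pullback t t).isoOfEq hμ.symm).hom ≫ μ.isoOpensRange.inv ≫ terminal.from _ from terminal.hom_ext _ _]
      infer_instance
    let fst' : (V : Scheme.{u}) ⟶ (W i : Scheme.{u}) := (pullback.fst t t).resLE (W i) V inf_le_left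
    haveI : IsSeparated fst' := by
      have : IsSeparated (fst' ≫ terminal.from _) := by
        rw [show fst' ≫ terminal.from _ = terminal.from _ from terminal.hom_ext _ _]; infer_instance
      exact IsSeparated.of_comp fst' (terminal.from _)
    haveI : IsClosedImmersion ((pullback.diagonal t ∣_ V) ≫ fst') := by
      have e : (pullback.diagonal t ∣_ V) ≫ fst' = (X.isoOfEq (hpre.trans (inf_idem (W i)))).hom := by
        rw [← cancel_mono (W i).ι, Category.assoc, Scheme.Hom.resLE_comp_ι, morphismRestrict_ι_assoc,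
          pullback.diagonal_fst, Category.comp_id, Scheme.isoOfEq_hom_ι]
      rw [e]; infer_instance
    exact IsClosedImmersion.of_comp _ fst'
  · haveI : IsEmpty ((pullback.diagonal t ⁻¹ᵁ V : X.Opens) : Scheme.{u}) := by
      refine ⟨fun z => ?_⟩
      have h := hpre.le z.2
      rw [(hd i j hij).eq_bot] at h
      exact h
    refine IsClosedImmersion.of_isPreimmersion _ ?_
    rw [Set.range_eq_empty]
    exact isClosed_empty

/-- A quasi-compact scheme has a dense separated open. -/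
theorem exists_dense_separated [CompactSpace X] :
    ∃ V : X.Opens, Dense (V : Set X) ∧ (V : Scheme.{u}).IsSeparated := by
  classical
  obtain ⟨t, ht⟩ := isCompact_univ.elim_finite_subcover (fun V : X.affineOpens => (V.1 : Set X))
    (fun V => V.1.isOpen) fun y _ => by
      obtain ⟨V, hV, hyV, -⟩ := exists_isAffineOpen_mem_and_subset (X := X) (x := y) (U := ⊤) trivial
      exact Set.mem_iUnion.2 ⟨⟨V, hV⟩, hyV⟩
  suffices H : ∀ s : Finset X.affineOpens, ∃ V : X.Opens, (∀ A ∈ s, (A.1 : Set X) ⊆ closure (V : Set X)) ∧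
      (V : Scheme.{u}).IsSeparated by
    obtain ⟨V, hV, hs⟩ := H t
    refine ⟨V, fun x => ?_, hs⟩
    obtain ⟨A, hA, hxA⟩ := Set.mem_iUnion₂.mp (ht (Set.mem_univ x))
    exact hV A hA hxA
  intro s
  induction s using Finset.induction with
  | empty =>
    refine ⟨⊥, fun A hA => absurd hA (Finset.notMem_empty A), ?_⟩
    haveI : IsAffine ((⊥ : X.Opens) : Scheme.{u}) := isAffineOpen_bot X
    infer_instance
  | insert A s _ ih =>
    obtain ⟨V, hV, hsep⟩ := ih
    let B : X.Opens := A.1 ⊓ ⟨(closure (V : Set X))ᶜ, isClosed_closure.isOpen_compl⟩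
    refine ⟨V ⊔ B, ?_, ?_⟩
    · intro A' hA' z hz
      rw [Opens.coe_sup, closure_union]
      rcases Finset.mem_insert.mp hA' with rfl | h
      · by_cases hzV : z ∈ closure (V : Set X)
        · exact Or.inl hzV
        · exact Or.inr (subset_closure ⟨hz, hzV⟩)
      · exact Or.inl (hV A' h hz)
    · haveI : IsAffine (A.1 : Scheme.{u}) := A.2
      let T := V ⊔ B
      let Wf : Fin 2 → X.Opens := ![V, B]
      refine isSeparated_of_disjoint (fun i => T.ι ⁻¹ᵁ Wf i) ?_ ?_ ?_
      · refine eq_top_iff.mpr fun z _ => ?_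
        rcases z.2 with h | h
        · exact Opens.mem_iSup.mpr ⟨0, h⟩
        · exact Opens.mem_iSup.mpr ⟨1, h⟩
      · have hVB : ∀ z : X, z ∈ V → z ∈ B → False := fun z h1 h2 => h2.2 (subset_closure h1)
        intro i j hij
        rw [disjoint_iff]
        ext z
        simp only [Opens.coe_inf, Set.mem_inter_iff, Opens.coe_bot, Set.mem_empty_iff_false, iff_false, not_and]
        fin_cases i <;> fin_cases j <;> first | exact absurd rfl hij | intro a b
        · exact hVB _ a b
        · exact hVB _ b a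
      · have gen : ∀ W : X.Opens, (W : Scheme.{u}).IsSeparated → W ≤ T →
            ((T.ι ⁻¹ᵁ W : (T : Scheme.{u}).Opens) : Scheme.{u}).IsSeparated := by
          intro W hW hle
          haveI := hW
          refine ⟨?_⟩
          rw [show terminal.from ((T.ι ⁻¹ᵁ W : (T : Scheme.{u}).Opens) : Scheme.{u}) =
            (T.ι ∣_ W) ≫ terminal.from _ from terminal.hom_ext _ _]
          infer_instance
        intro i
        fin_cases i
        · exact gen V hsep le_sup_left
        · refine gen B ?_ le_sup_right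
          refine ⟨?_⟩
          rw [show terminal.from (B : Scheme.{u}) = X.homOfLE (inf_le_left : B ≤ A.1) ≫ terminal.from _
            from terminal.hom_ext _ _]
          infer_instance

end Groth.Agent.H75.GenPts
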